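import Mathlib
import Cfsg.Agent.Lib.Helper81.AOC

set_option autoImplicit false

namespace Cfsg.Agent.Lib.Helper67.AO

open scoped commutatorElement

variable {G : Type*} [Group G]

/-- the conjugacy class of `g`, as a set -/
def ccSet (g : G) : Set G := {h | IsConj g h}

theorem ccSet_subset_orbit (g : G) : ccSet g ⊆ MulAction.orbit (MulAut G) g := by
  intro h hh
  obtain ⟨x, hx⟩ := isConj_iff.mp hh
  exact ⟨MulAut.conj x, by simp [MulAut.smul_def, hx]⟩

theorem ccSet_ncard (g : G) : (ccSet g).ncard = (Subgroup.centralizer ({g} : Set G)).index := by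
  classical
  have h1 : ccSet g = MulAction.orbit (ConjAct G) g := by
    ext h
    simp only [ccSet, Set.mem_ofPred_eq, MulAction.mem_orbit_iff]
    rw [isConj_iff]
    constructor
    · rintro ⟨x, hx⟩
      exact ⟨ConjAct.toConjAct x, by simp [ConjAct.smul_def, hx]⟩
    · rintro ⟨x, hx⟩
      exact ⟨ConjAct.ofConjAct x, by simpa [ConjAct.smul_def] using hx⟩
  rw [h1, ← MulAction.index_stabilizer]
  have h2 : MulAction.stabilizer (ConjAct G) g =
      (Subgroup.centralizer ({g} : Set G)).comap (ConjAct.ofConjAct (G := G)).toMonoidHom := by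
    ext x
    simp only [MulAction.mem_stabilizer_iff, Subgroup.mem_comap, MulEquiv.coe_toMonoidHom,
      Subgroup.mem_centralizer_singleton_iff, ConjAct.smul_def]
    constructor
    · intro h
      have : ConjAct.ofConjAct x * g = g * ConjAct.ofConjAct x := by
        calc ConjAct.ofConjAct x * g = (ConjAct.ofConjAct x * g * (ConjAct.ofConjAct x)⁻¹) * ConjAct.ofConjAct x := by group
          _ = g * ConjAct.ofConjAct x := by rw [h]
      exact this
    · intro h
      calc ConjAct.ofConjAct x * g * (ConjAct.ofConjAct x)⁻¹ = (g * ConjAct.ofConjAct x) * (ConjAct.ofConjAct x)⁻¹ := by rw [h]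
        _ = g := by group
  rw [h2]
  exact Subgroup.index_comap_of_surjective _ (ConjAct.ofConjAct (G := G)).surjective

theorem minFac_le_ccSet_ncard [Finite G] (g : G) (hg : g ∉ Subgroup.center G) :
    (Nat.card G).minFac ≤ (ccSet g).ncard := by
  rw [ccSet_ncard]
  apply Nat.minFac_le_of_dvd
  · have h0 : (Subgroup.centralizer ({g} : Set G)).index ≠ 0 := Subgroup.index_ne_zero_of_finite
    have h1 : (Subgroup.centralizer ({g} : Set G)).index ≠ 1 := by
      intro h
      rw [Subgroup.index_eq_one] at h
      apply hg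
      rw [Subgroup.mem_center_iff]
      intro x
      have hx : x ∈ Subgroup.centralizer ({g} : Set G) := h ▸ Subgroup.mem_top x
      rw [Subgroup.mem_centralizer_iff] at hx
      exact (hx g rfl).symm
    omega
  · exact Subgroup.index_dvd_card _

theorem minFac_le_card_orbit [Finite G] (g : G) (hg : g ∉ Subgroup.center G) :
    (Nat.card G).minFac ≤ Nat.card (MulAction.orbit (MulAut G) g) := by
  have h1 := minFac_le_ccSet_ncard g hg
  have h2 : (ccSet g).ncard ≤ (MulAction.orbit (MulAut G) g).ncard :=
    Set.ncard_le_ncard (ccSet_subset_orbit g) (Set.toFinite _)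
  rw [Nat.card_coe_set_eq]
  omega

theorem two_mul_minFac_le_card_orbit [Finite G] (g : G) (hg : g ∉ Subgroup.center G) (β : MulAut G)
    (hβ : ¬ IsConj g (β g)) :
    2 * (Nat.card G).minFac ≤ Nat.card (MulAction.orbit (MulAut G) g) := by
  have hβg : β g ∉ Subgroup.center G := by
    intro h
    apply hg
    rw [Subgroup.mem_center_iff] at h ⊢
    intro x
    have := h (β x)
    rw [← map_mul, ← map_mul] at this
    exact β.injective this
  have h1 := minFac_le_ccSet_ncard g hg
  have h2 := minFac_le_ccSet_ncard (β g) hβg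
  have hdisj : Disjoint (ccSet g) (ccSet (β g)) := by
    rw [Set.disjoint_left]
    intro h hh1 hh2
    exact hβ (IsConj.trans hh1 (IsConj.symm hh2))
  have horb : MulAction.orbit (MulAut G) (β g) = MulAction.orbit (MulAut G) g :=
    MulAction.orbit_eq_iff.mpr ⟨β, rfl⟩
  have hsub : ccSet g ∪ ccSet (β g) ⊆ MulAction.orbit (MulAut G) g := by
    apply Set.union_subset (ccSet_subset_orbit g)
    intro h hh
    have := ccSet_subset_orbit (β g) hh
    rwa [horb] at this
  have h3 := Set.ncard_le_ncard hsub (Set.toFinite _)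
  rw [Set.ncard_union_eq hdisj (Set.toFinite _) (Set.toFinite _)] at h3
  rw [Nat.card_coe_set_eq]
  omega

/-- `|G : Z(G)| ≥ p²` and `|G \ C_G(u)| ≥ 2(p-1)|Z(G)|` for non-central `u`. -/
theorem center_chain [Finite G] (u : G) (hu : u ∉ Subgroup.center G) :
    (Nat.card G).minFac ^ 2 * Nat.card (Subgroup.center G) ≤ Nat.card G ∧
    2 * ((Nat.card G).minFac - 1) * Nat.card (Subgroup.center G) ≤
      Nat.card ({g : G | ⁅u, g⁆ ≠ 1} : Set G) := by
  set p := (Nat.card G).minFac with hp
  set C := Subgroup.centralizer ({u} : Set G) with hC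
  have hD : ({g : G | ⁅u, g⁆ ≠ 1} : Set G) = (C : Set G)ᶜ := by
    ext g
    simp only [Set.mem_ofPred_eq, ne_eq, Set.mem_compl_iff, SetLike.mem_coe, hC,
      Subgroup.mem_centralizer_iff, Set.mem_singleton_iff, forall_eq,
      commutatorElement_eq_one_iff_mul_comm]
  have hidx : p ≤ C.index := by
    have := minFac_le_ccSet_ncard u hu
    rwa [ccSet_ncard] at this
  have hZC : Subgroup.center G ≤ C := Subgroup.center_le_centralizer _
  have huC : u ∈ C := by
    rw [hC, Subgroup.mem_centralizer_iff]
    intro h hh
    rw [Set.mem_singleton_iff] at hh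
    rw [hh]
  have hrel : p ≤ (Subgroup.center G).relIndex C := by
    apply Nat.minFac_le_of_dvd
    · have h0 : (Subgroup.center G).relIndex C ≠ 0 := by
        show ((Subgroup.center G).subgroupOf C).index ≠ 0
        exact Subgroup.index_ne_zero_of_finite
      have h1 : (Subgroup.center G).relIndex C ≠ 1 := by
        intro h
        rw [Subgroup.relIndex_eq_one] at h
        exact hu (h huC)
      omega
    · exact (Subgroup.relIndex_dvd_card _ _).trans (Subgroup.card_subgroup_dvd_card C)
  have e1 := Subgroup.card_mul_index (Subgroup.center G)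
  have e2 := Subgroup.card_mul_index C
  have e3 := Subgroup.relIndex_mul_index hZC
  have hpos : 0 < C.index := Nat.pos_of_ne_zero Subgroup.index_ne_zero_of_finite
  have hCcard : Nat.card C = Nat.card (Subgroup.center G) * (Subgroup.center G).relIndex C := by
    have : Nat.card C * C.index =
        (Nat.card (Subgroup.center G) * (Subgroup.center G).relIndex C) * C.index := by
      rw [e2, mul_assoc, e3, e1]
    exact Nat.eq_of_mul_eq_mul_right hpos this
  have hp1 : 1 ≤ p := Nat.minFac_pos _
  have hz : 1 ≤ Nat.card (Subgroup.center G) := Nat.card_pos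
  refine ⟨?_, ?_⟩
  · rw [← e2, hCcard]
    nlinarith [Nat.mul_le_mul hrel hidx]
  · rw [hD, Nat.card_coe_set_eq, Set.ncard_compl, ← Nat.card_coe_set_eq]
    have hCc : Nat.card (C : Set G) = Nat.card C := rfl
    rw [hCc, ← e2]
    have h2p : 2 ≤ p := by
      by_contra hlt
      have hp1' : p = 1 := by omega
      rw [hp, Nat.minFac_eq_one_iff] at hp1'
      have hsub : Subsingleton G := (Nat.card_eq_one_iff_unique.mp hp1').1
      apply hu
      rw [Subsingleton.elim u 1]
      exact one_mem _
    have h2 : 2 ≤ (Subgroup.center G).relIndex C := le_trans h2p hrel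
    have h3 : Nat.card C * C.index - Nat.card C = Nat.card C * (C.index - 1) := by
      rw [Nat.mul_sub_one]
    rw [h3, hCcard]
    calc 2 * (p - 1) * Nat.card (Subgroup.center G)
        = Nat.card (Subgroup.center G) * 2 * (p - 1) := by ring
      _ ≤ Nat.card (Subgroup.center G) * (Subgroup.center G).relIndex C * (C.index - 1) :=
          Nat.mul_le_mul (Nat.mul_le_mul_left _ h2) (Nat.sub_le_sub_right hidx 1)

/-- If some automorphism `β` moves the class of every `g` not commuting with a non-central `u`,
then `Aut(G)` has at most `|G|/p` orbits. -/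
theorem card_orbits_mul_le_of_moving [Finite G] (u : G) (hu : u ∉ Subgroup.center G) (β : MulAut G)
    (hβ : ∀ g : G, ⁅u, g⁆ ≠ 1 → ¬ IsConj g (β g)) :
    Nat.card (MulAction.orbitRel.Quotient (MulAut G) G) * (Nat.card G).minFac ≤ Nat.card G := by
  have hc := center_chain u hu
  have hcomm : ∀ g : G, g ∈ Subgroup.center G → ⁅u, g⁆ = 1 := by
    intro g hg
    rw [commutatorElement_eq_one_iff_mul_comm]
    exact (Subgroup.mem_center_iff.mp hg) u
  apply card_orbits_mul_le (A := MulAut G) (X := G) (Nat.card G).minFac (Nat.minFac_pos _)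
    (Subgroup.center G : Set G) {g : G | ⁅u, g⁆ ≠ 1}
  · rw [Set.disjoint_left]
    intro g hg hD
    exact hD (hcomm g hg)
  · intro g hg
    exact minFac_le_card_orbit g hg
  · intro g hg
    have hgZ : g ∉ Subgroup.center G := fun h => hg (hcomm g h)
    exact two_mul_minFac_le_card_orbit g hgZ β (hβ g hg)
  · exact hc.2

/-- The number of `Aut(G)`-orbits is at most the class number. -/
theorem card_orbits_le_card_conjClasses [Finite G] :
    Nat.card (MulAction.orbitRel.Quotient (MulAut G) G) ≤ Nat.card (ConjClasses G) := by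
  let f : ConjClasses G → MulAction.orbitRel.Quotient (MulAut G) G :=
    Quotient.map' (s₁ := IsConj.setoid G) (s₂ := MulAction.orbitRel (MulAut G) G) id (by
      intro a b hab
      obtain ⟨x, hx⟩ := isConj_iff.mp hab
      show a ∈ MulAction.orbit (MulAut G) b
      refine ⟨MulAut.conj x⁻¹, ?_⟩
      rw [← hx]
      simp [MulAut.smul_def, mul_assoc])
  apply Nat.card_le_card_of_surjective f
  intro q
  induction q using Quotient.inductionOn' with
  | h a => exact ⟨ConjClasses.mk a, rfl⟩

end Cfsg.Agent.Lib.Helper67.AO
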